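import Cfsg.Agent.H474.Sd.Tool
import Cfsg.Agent.KFacts.He.Cent
import Cfsg.Agent.OddHalf.UT5.End

/-!
# The Sylow 2-subgroups of the Held group have elementary abelian commutator quotient (helper474)
-/

set_option autoImplicit false
set_option maxRecDepth 100000

namespace Cfsg.Agent.H474.Sd

open Subgroup Cfsg
open Cfsg.Agent.H643.Sd
open Cfsg.Agent.SporadicRecognition.HeldModel
open Cfsg.Agent.OddHalf.UT5 Cfsg.Agent.OddHalf.UT5.Model Cfsg.Agent.OddHalf.UT5.EndModel

namespace HeSd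

/-- the Sylow subgroup of the model -/
abbrev P : Subgroup CC := T0.subgroupOf CC

theorem WL_lt : ∀ p ∈ WL, p.2.1 < p.2.2.1 := by decide

theorem el_mem (l : List (ℕ × Fin 5 × Fin 5 × ℕ)) (hl : ∀ p ∈ l, p.2.1 < p.2.2.1) (a : ℕ) : el l a ∈ P := by
  induction l with
  | nil => exact P.one_mem
  | cons p l ih =>
    have ih' := ih fun q hq => hl q (List.mem_cons_of_mem _ hq)
    unfold el
    cases h : a.testBit p.1 with
    | false => exact ih'
    | true =>
      show rt p.2.1 p.2.2.1 * el l a ∈ P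
      exact P.mul_mem (mem_subgroupOf.2 (rt_mem_T0 (hl p List.mem_cons_self))) ih'

theorem el_sq (f : P →* ℂˣ) (l : List (ℕ × Fin 5 × Fin 5 × ℕ)) (hl : ∀ p ∈ l, p.2.1 < p.2.2.1) (a : ℕ) :
    f ⟨el l a, el_mem l hl a⟩ ^ 2 = 1 := by
  induction l with
  | nil =>
    have : (⟨el [] a, el_mem [] hl a⟩ : P) = 1 := rfl
    rw [this, map_one, one_pow]
  | cons p l ih =>
    have hl' : ∀ q ∈ l, q.2.1 < q.2.2.1 := fun q hq => hl q (List.mem_cons_of_mem _ hq)
    have ih' := ih hl'
    have hp : rt p.2.1 p.2.2.1 ∈ P := mem_subgroupOf.2 (rt_mem_T0 (hl p List.mem_cons_self))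
    cases h : a.testBit p.1 with
    | false =>
      have h1 : (⟨el (p :: l) a, el_mem (p :: l) hl a⟩ : P) = ⟨el l a, el_mem l hl' a⟩ := by
        apply Subtype.ext
        show el (p :: l) a = el l a
        conv_lhs => unfold el
        rw [h]
        rfl
      rw [h1]
      exact ih'
    | true =>
      have h1 : (⟨el (p :: l) a, el_mem (p :: l) hl a⟩ : P) = ⟨rt p.2.1 p.2.2.1, hp⟩ * ⟨el l a, el_mem l hl' a⟩ := by
        apply Subtype.ext
        show el (p :: l) a = rt p.2.1 p.2.2.1 * el l a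
        conv_lhs => unfold el
        rw [h]
        rfl
      have h2 : (⟨rt p.2.1 p.2.2.1, hp⟩ : P) ^ 2 = 1 := by
        apply Subtype.ext
        show rt p.2.1 p.2.2.1 ^ 2 = 1
        rw [pow_two, rt_sq]
      rw [h1, map_mul, mul_pow, ih', mul_one, ← map_pow, h2, map_one]

theorem lin2_P : Lin2 P := by
  rintro f ⟨c, hc⟩
  obtain ⟨a, ha⟩ := exists_el (mem_subgroupOf.1 hc)
  subst ha
  exact el_sq f WL WL_lt a

theorem card_P : Nat.card P = 2 ^ 10 := by
  rw [Nat.card_congr (subgroupOfEquivOfLe T0_le_CC).toEquiv, card_T0]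
  norm_num

end HeSd

/-- **The row He.** -/
theorem elem_he {G : Type*} [Group G] [Finite G] (h : Cfsg.Spor.IsoHe G) : Elem G := by
  obtain ⟨e⟩ := h
  have hfin : Finite Spor.He := Finite.of_equiv G e.toEquiv
  refine elem_of_equiv e ?_
  obtain ⟨z, ι, hH⟩ := KFacts.He.Hyp.hyp_he
  have h1 : Nat.card (HeSd.P.map ι) = 2 ^ 10 := by
    rw [Subgroup.card_map_of_injective hH.inj, HeSd.card_P]
  refine elem_of_sub (HeSd.P.map ι) h1 ?_ ?_
  · have h2 := (HeSd.P.map ι).card_mul_index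
    rw [h1, KFacts.He.Cent.card_He] at h2
    omega
  · exact lin2_of_equiv (Subgroup.equivMapOfInjective HeSd.P ι hH.inj).symm HeSd.lin2_P

end Cfsg.Agent.H474.Sd
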