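import Cfsg.Agent.H474.Sd.Tool
import Cfsg.Agent.UGT.C.BalONInv
import Cfsg.Agent.H474.ONC.Main

/-!
# The Sylow 2-subgroups of the O'Nan group have elementary abelian commutator quotient (helper474)
-/

set_option autoImplicit false
set_option maxRecDepth 100000

namespace Cfsg.Agent.H474.Sd

open Subgroup Cfsg
open Cfsg.Spor (ON)
open Cfsg.Agent.H643.Sd
open Cfsg.Agent.UGT.C.BalONTab Cfsg.Agent.UGT.C.BalONInv Cfsg.Agent.UGT.C.PcTab
open Cfsg.Agent.Schreier.ONRel (s)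
open Cfsg.Agent.KFacts.ON.Cent (hON finite_ON)

namespace ONSd

/-- the square of `E (2 ^ i)` is the commutator of `E a` and `E b` -/
def dat : List (ℕ × ℕ × ℕ × ℕ) :=
  [(1, 0, 0, 0), (2, 0, 0, 0), (4, 1, 2, 256), (8, 0, 0, 0), (16, 4, 16, 160), (32, 3, 8, 144), (64, 0, 0, 0),
    (128, 0, 0, 0), (256, 0, 0, 0)]

theorem dat_ok : dat.all (fun e => Nat.beq (mu e.1 e.1) e.2.1 &&
    Nat.beq (mu e.2.2.1 e.2.2.2) (mu e.2.1 (mu e.2.2.2 e.2.2.1)) && Nat.blt e.1 512 && Nat.blt e.2.1 512 &&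
    Nat.blt e.2.2.1 512 && Nat.blt e.2.2.2 512) = true := by decide +kernel

theorem gen_sq (f : T →* ℂˣ) {e : ℕ × ℕ × ℕ × ℕ} (he : e ∈ dat) : f ⟨E e.1, E_mem _⟩ ^ 2 = 1 := by
  have hs := hON.1
  have h := List.all_eq_true.1 dat_ok e he
  simp only [Bool.and_eq_true, Nat.beq_eq, Nat.blt_eq] at h
  obtain ⟨⟨⟨⟨⟨h1, h2⟩, h3⟩, h4⟩, h5⟩, h6⟩ := h
  have e1 : (⟨E e.1, E_mem _⟩ : T) ^ 2 = ⟨E e.2.1, E_mem _⟩ := by
    apply Subtype.ext
    show E e.1 ^ 2 = E e.2.1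
    rw [pow_two, E_mul hs h3, h1]
  have e2 : (⟨E e.2.2.1, E_mem _⟩ : T) * ⟨E e.2.2.2, E_mem _⟩ =
      ⟨E e.2.1, E_mem _⟩ * (⟨E e.2.2.2, E_mem _⟩ * ⟨E e.2.2.1, E_mem _⟩) := by
    apply Subtype.ext
    show E e.2.2.1 * E e.2.2.2 = E e.2.1 * (E e.2.2.2 * E e.2.2.1)
    rw [E_mul hs h5, E_mul hs h6, E_mul hs h4, h2]
  rw [← map_pow, e1]
  have e3 := congrArg f e2
  rw [map_mul, map_mul, map_mul, mul_comm (f ⟨E e.2.2.2, _⟩)] at e3
  exact (right_eq_mul).1 e3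

theorem s_mem {i : ℕ} (hi : i < 9) : s i ∈ T := by
  rw [← E_pow i hi]
  exact E_mem _

theorem s_sq (f : T →* ℂˣ) {i : ℕ} (hi : i < 9) : f ⟨s i, s_mem hi⟩ ^ 2 = 1 := by
  have key : ∀ i < 9, ∃ e ∈ dat, e.1 = 2 ^ i := by decide
  obtain ⟨e, he, h⟩ := key i hi
  have h1 := gen_sq f he
  have h2 : (⟨E e.1, E_mem _⟩ : T) = ⟨s i, s_mem hi⟩ := Subtype.ext (by
    show E e.1 = s i
    rw [h, E_pow i hi])
  rwa [h2] at h1

theorem ev_sq (f : T →* ℂˣ) (x : ℕ) : ∀ k ≤ 9, ∀ hx : ev s x k ∈ T, f ⟨ev s x k, hx⟩ ^ 2 = 1 := by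
  intro k
  induction k with
  | zero =>
    intro _ hx
    have : (⟨ev s x 0, hx⟩ : T) = 1 := rfl
    rw [this, map_one, one_pow]
  | succ k ih =>
    intro hk hx
    have hx' : ev s x k ∈ T := by
      have h1 := ev_mem s x k
      exact Cfsg.Agent.HN.PC.Pc_mono (by omega) h1
    have hk' : k < 9 := by omega
    have h2 : (⟨ev s x (k + 1), hx⟩ : T) = ⟨ev s x k, hx'⟩ * (bif x.testBit k then ⟨s k, s_mem hk'⟩ else 1) := by
      apply Subtype.ext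
      show ev s x (k + 1) = ev s x k * ((bif x.testBit k then (⟨s k, s_mem hk'⟩ : T) else 1 : T) : ON)
      show ev s x k * (bif x.testBit k then s k else 1) = _
      cases x.testBit k <;> rfl
    rw [h2, map_mul, mul_pow, ih (by omega) hx', one_mul]
    cases x.testBit k
    · show f 1 ^ 2 = 1
      rw [map_one, one_pow]
    · exact s_sq f hk'

theorem lin2_T : Lin2 T := by
  rintro f ⟨t, ht⟩
  obtain ⟨x, -, rfl⟩ := exists_E hON.1 ht
  exact ev_sq f x 9 le_rfl ht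

end ONSd

/-- **The row ON.** -/
theorem elem_on {G : Type*} [Group G] [Finite G] (h : Cfsg.Spor.IsoON G) : Elem G := by
  have hfin := finite_ON
  obtain ⟨e⟩ := h
  refine elem_of_equiv e ?_
  have h1 : Nat.card T = 2 ^ 9 := Cfsg.Agent.Schreier.ONTr.card_T hON.1
  refine elem_of_sub T h1 ?_ ONSd.lin2_T
  have h2 := T.card_mul_index
  rw [h1, H474.ONC.card_ON] at h2
  omega

end Cfsg.Agent.H474.Sd
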