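import Cfsg.Agent.H474.Sd.Tool
import Cfsg.Agent.H352.Sd.Tool
import Cfsg.Agent.Transfer.Extraspecial
import Cfsg.Agent.H636.LieTwoWitt
import Cfsg.Agent.H813.SuzQuot
import Cfsg.Agent.H845.AutUFour
import Cfsg.Agent.S1719

/-!
# The Sylow 2-subgroups of the Suzuki group have elementary abelian commutator quotient (helper474)
-/

set_option autoImplicit false

namespace Cfsg.Agent.H474.Sd

open Subgroup Cfsg
open Cfsg.Agent.H643.Sd
open Cfsg.Agent.Transfer.Extraspecial (pow_mem_center comm_mem_center exists_comm_ne_one)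

/-- **E3** -/
theorem elem_of_extra {G : Type*} [Group G] [Finite G] (E : Subgroup G) [hn : E.Normal] (hE : IsExtraspecial 2 E)
    (h : Elem (G ⧸ E)) : Elem G := by
  have hc : Nat.card (center E) = 2 := hE.2
  obtain ⟨x, y, hxy, huniv⟩ := Nat.card_eq_two_iff.1 hc
  -- the involution of the centre
  obtain ⟨w, hw1, hw⟩ : ∃ w : center E, w ≠ 1 ∧ ∀ u : center E, u = 1 ∨ u = w := by
    have h1 : ∀ u : center E, u = x ∨ u = y := fun u => by
      have : u ∈ ({x, y} : Set (center E)) := by rw [huniv]; exact Set.mem_univ u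
      simpa using this
    rcases h1 1 with h2 | h2
    · exact ⟨y, fun h3 => hxy (h2.symm.trans h3.symm), fun u => by rw [h2]; exact h1 u⟩
    · exact ⟨x, fun h3 => hxy (h3.trans h2), fun u => by rw [h2]; exact (h1 u).symm⟩
  have hwc : ∀ u ∈ center E, (u : G) = 1 ∨ (u : G) = ((w : E) : G) := by
    intro u hu
    rcases hw ⟨u, hu⟩ with h1 | h1
    · left
      have : u = 1 := congrArg Subtype.val h1
      rw [this]; rfl
    · right
      have : u = (w : E) := congrArg Subtype.val h1
      rw [this]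
  set z : G := ((w : E) : G) with hz
  have hz1 : z ≠ 1 := fun h1 => hw1 (Subtype.ext (Subtype.ext h1))
  have hzE : z ∈ E := (w : E).2
  have hzc : ∀ g : G, z * g = g * z := by
    intro g
    have h1 : g * z * g⁻¹ ∈ E := hn.conj_mem z hzE g
    have h2 : (⟨g * z * g⁻¹, h1⟩ : E) ∈ center E := by
      rw [mem_center_iff]
      intro b
      apply Subtype.ext
      show (b : G) * (g * z * g⁻¹) = g * z * g⁻¹ * b
      have h3 : g⁻¹ * b * g ∈ E := by
        have := hn.conj_mem b b.2 g⁻¹
        rwa [inv_inv] at this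
      have h4 := congrArg Subtype.val (mem_center_iff.1 w.2 ⟨g⁻¹ * b * g, h3⟩)
      have h5 : (g⁻¹ * b * g) * z = z * (g⁻¹ * b * g) := h4
      calc (b : G) * (g * z * g⁻¹) = g * ((g⁻¹ * b * g) * z) * g⁻¹ := by group
        _ = g * (z * (g⁻¹ * b * g)) * g⁻¹ := by rw [h5]
        _ = _ := by group
    rcases hwc _ h2 with h3 | h3
    · exact absurd (conj_eq_one_iff.1 h3) hz1
    · exact (mul_inv_eq_iff_eq_mul.1 h3).symm
  have hker : ∀ {x : G}, QuotientGroup.mk' E x = 1 ↔ x ∈ E := fun {x} => by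
    rw [QuotientGroup.mk'_apply, QuotientGroup.eq_one_iff]
  refine H352.Sd.elem_of_ker (QuotientGroup.mk' E) (QuotientGroup.mk'_surjective E) (z := z) hz1 (hker.2 hzE) hzc
    ?_ ?_ ?_ ?_ h
  · intro x hx
    have hx' := hker.1 hx
    have := hwc _ (pow_mem_center hE ⟨x, hx'⟩)
    rw [pow_two] at this
    exact this
  · intro x y hx hy
    have hx' := hker.1 hx
    have hy' := hker.1 hy
    rcases hwc _ (comm_mem_center hE ⟨x, hx'⟩ ⟨y, hy'⟩) with h1 | h1
    · left
      have h2 : x * y * x⁻¹ * y⁻¹ = 1 := h1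
      rw [mul_inv_eq_one] at h2
      exact mul_inv_eq_iff_eq_mul.1 h2
    · right
      have h2 : x * y * x⁻¹ * y⁻¹ = z := h1
      have h3 : x * y = z * (y * x) := by
        rw [← h2]; group
      rw [h3, hzc]
  · intro x hx hcomm
    have hx' := hker.1 hx
    have h1 : (⟨x, hx'⟩ : E) ∈ center E := by
      rw [mem_center_iff]
      intro b
      exact Subtype.ext (hcomm b (hker.2 b.2)).symm
    exact hwc _ h1
  · obtain ⟨a, b, hab⟩ := exists_comm_ne_one (by norm_num) hE
    refine ⟨a, hker.2 a.2, ?_, ?_⟩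
    · intro h1
      apply hab
      have : a = 1 := Subtype.ext h1
      rw [this]
      simp
    · intro h1
      apply hab
      rw [commutatorElement_eq_one_iff_mul_comm]
      apply Subtype.ext
      show (a : G) * b = b * a
      rw [h1]
      exact hzc b

theorem elem_omega_six : Elem (Omega (ZMod 2) (quadFormMinus 2 (ZMod 2) 1 1)) := by
  obtain ⟨e⟩ := H845.AutUFour.nonempty_equiv_omega
  have hfin : Finite (POmega (ZMod 2) (quadFormMinus 2 (ZMod 2) 1 1)) := Finite.of_equiv _ e.toEquiv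
  exact elem_of_equiv e (elem_of_sylEl (H636.LieTwoWitt.sylEl_POmegaMinus 1 1 LargeExtra.Cards.aniso (by norm_num)))

theorem elem_xs : Elem H813.SuzQuot.XS := by
  have hcard := H813.SuzQuot.card_X
  have hfin : Finite H813.SuzQuot.XS := Nat.finite_of_card_ne_zero (by rw [hcard]; norm_num)
  obtain ⟨z, hz, Q, hQn, -, hQ, hQc, ⟨e⟩, -⟩ := H813.SuzQuot.type_X
  have h1 : Nat.card (centralizer ({z} : Set H813.SuzQuot.XS)) = 3317760 := by
    rw [Subgroup.card_eq_card_quotient_mul_card_subgroup Q, hQc, Nat.card_congr e.toEquiv]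
    rw [show Nat.card (Omega (ZMod 2) (quadFormMinus 2 (ZMod 2) 1 1)) = 25920 from H845.AutUFour.card_omega]
    norm_num
  refine elem_of_odd (centralizer ({z} : Set H813.SuzQuot.XS)) ?_ (elem_of_extra Q hQ (elem_of_equiv e elem_omega_six))
  have h2 := (centralizer ({z} : Set H813.SuzQuot.XS)).card_mul_index
  rw [h1, hcard] at h2
  omega

theorem iso_xs : Spor.IsoSuz H813.SuzQuot.XS := by
  have hcard := H813.SuzQuot.card_X
  have hfin : Finite H813.SuzQuot.XS := Nat.finite_of_card_ne_zero (by rw [hcard]; norm_num)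
  obtain ⟨z, hz, Q, hQn, hF, hQ, hQc, ⟨e⟩, hnwc⟩ := H813.SuzQuot.type_X
  exact S1719.result z hz Q hF hQ hQc e hnwc

/-- **The row Suz.** -/
theorem elem_suz {G : Type*} [Group G] [Finite G] (h : Cfsg.Spor.IsoSuz G) : Elem G := by
  have hcard := H813.SuzQuot.card_X
  have hfin : Finite H813.SuzQuot.XS := Nat.finite_of_card_ne_zero (by rw [hcard]; norm_num)
  obtain ⟨e⟩ := h
  obtain ⟨f⟩ := iso_xs
  exact elem_of_equiv (e.trans f.symm) elem_xs

end Cfsg.Agent.H474.Sd
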