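import Cfsg.Agent.H643.Sd.Def
import Cfsg.Agent.H636.RgdAb

/-!
# `Elem` for sporadic groups: small tools (helper474)
-/

set_option autoImplicit false

namespace Cfsg.Agent.H474.Sd

open Subgroup
open Cfsg.Agent.H643.Sd
open Cfsg.Agent.H636.RgdAb (SylEl)

universe u

theorem lin2_of_equiv {P Q : Type*} [Group P] [Group Q] (e : P ≃* Q) (h : Lin2 Q) : Lin2 P := by
  intro f x
  have h1 := h (f.comp e.symm.toMonoidHom) (e x)
  simpa using h1

/-- generated by elements whose squares are killed by all linear characters -/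
theorem lin2_of_closure {P : Type*} [Group P] (S : Set P) (hS : closure S = ⊤)
    (h : ∀ f : P →* ℂˣ, ∀ x ∈ S, f x ^ 2 = 1) : Lin2 P := by
  intro f x
  have hx : x ∈ closure S := by rw [hS]; exact mem_top x
  induction hx using Subgroup.closure_induction with
  | mem x hx => exact h f x hx
  | one => rw [map_one, one_pow]
  | mul x y _ _ hx hy => rw [map_mul, mul_pow, hx, hy, one_mul]
  | inv x _ hx => rw [map_inv, inv_pow, hx, inv_one]

theorem lin2_of_comm {P : Type*} [Group P] (h : ∀ x : P, x ^ 2 ∈ commutator P) : Lin2 P := by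
  intro f x
  rw [← map_pow]
  have h1 : commutator P ≤ f.ker := Abelianization.commutator_subset_ker f
  exact h1 (h x)

theorem elem_of_sylEl {G : Type*} [Group G] (h : SylEl G) : Elem G := fun P => lin2_of_comm (h P)

/-- one Sylow subgroup suffices -/
theorem elem_of_one {G : Type*} [Group G] [Finite G] (P : Sylow 2 G) (h : Lin2 (P : Subgroup G)) : Elem G := by
  intro Q
  exact lin2_of_equiv (Q.equiv P) h

theorem elem_of_equiv {G H : Type*} [Group G] [Group H] [Finite H] (e : G ≃* H) (h : Elem H) : Elem G := by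
  have : Fact (Nat.Prime 2) := ⟨Nat.prime_two⟩
  have hG : Finite G := Finite.of_equiv H e.symm.toEquiv
  obtain ⟨Q⟩ : Nonempty (Sylow 2 H) := inferInstance
  have hP : IsPGroup 2 ((Q : Subgroup H).comap e.toMonoidHom) := Q.2.comap_of_injective _ e.injective
  have hQ : ((Q : Subgroup H).comap e.toMonoidHom).index = (Q : Subgroup H).index :=
    Subgroup.index_comap_of_surjective _ e.surjective
  have hi : ¬ 2 ∣ ((Q : Subgroup H).comap e.toMonoidHom).index := by
    rw [hQ]
    exact Q.not_dvd_index
  let P : Sylow 2 G := hP.toSylow hi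
  refine elem_of_one P ?_
  have e' : (P : Subgroup G) ≃* (Q : Subgroup H) := by
    have h1 : (P : Subgroup G) = (Q : Subgroup H).comap e.toMonoidHom := rfl
    have h2 : ((P : Subgroup G).map e.toMonoidHom) = (Q : Subgroup H) := by
      rw [h1, Subgroup.map_comap_eq_self_of_surjective e.surjective]
    exact (e.subgroupMap P).trans (MulEquiv.subgroupCongr h2)
  exact lin2_of_equiv e' (h Q)

/-- a subgroup of order a power of 2 and odd index -/
theorem elem_of_sub {G : Type*} [Group G] [Finite G] (P : Subgroup G) {k : ℕ} (hp : Nat.card P = 2 ^ k)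
    (hi : ¬ 2 ∣ P.index) (h : Lin2 P) : Elem G := by
  have : Fact (Nat.Prime 2) := ⟨Nat.prime_two⟩
  exact elem_of_one ((IsPGroup.of_card hp).toSylow hi) h

/-- a subgroup of odd index -/
theorem elem_of_odd {G : Type*} [Group G] [Finite G] (H : Subgroup G) (hi : ¬ 2 ∣ H.index) (h : Elem H) : Elem G := by
  have : Fact (Nat.Prime 2) := ⟨Nat.prime_two⟩
  obtain ⟨P⟩ : Nonempty (Sylow 2 H) := inferInstance
  have hP : IsPGroup 2 ((P : Subgroup H).map H.subtype) := P.2.map _
  have hidx : ¬ 2 ∣ ((P : Subgroup H).map H.subtype).index := by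
    have h1 : ((P : Subgroup H).map H.subtype).index = (P : Subgroup H).index * H.index := by
      rw [← Subgroup.relIndex_mul_index (K := H) (Subgroup.map_subtype_le _)]
      congr 1
      rw [Subgroup.relIndex, Subgroup.subgroupOf, Subgroup.comap_map_eq_self_of_injective H.subtype_injective]
    rw [h1, Nat.prime_two.dvd_mul, not_or]
    exact ⟨P.not_dvd_index, hi⟩
  exact elem_of_one (hP.toSylow hidx) (lin2_of_equiv (Subgroup.equivMapOfInjective _ _ H.subtype_injective).symm (h P))

end Cfsg.Agent.H474.Sd
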